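import Mathlib

/-! Numerical bounds for orders of automorphisms of `PSL_d(q)`. -/

set_option autoImplicit false

namespace CfsgLib.AutOrder

/-- The number of points of projective space. -/
def NS (q d : ℕ) : ℕ := ∑ i ∈ Finset.range d, q ^ i

theorem NS_succ (q d : ℕ) : NS q (d + 1) = NS q d + q ^ d := by rw [NS, Finset.sum_range_succ]; rfl

theorem NS_geom {q : ℕ} (hq : 1 ≤ q) (d : ℕ) : (q - 1) * NS q d + 1 = q ^ d := by
  obtain ⟨p, rfl⟩ : ∃ p, q = p + 1 := ⟨q - 1, by omega⟩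
  rw [Nat.add_sub_cancel]
  induction d with
  | zero => simp [NS]
  | succ d ih => rw [NS_succ, mul_add, pow_succ]; nlinarith

theorem le_NS {q d k : ℕ} (hq : 2 ≤ q) (h : (q - 1) * k ≤ q ^ d - 1) : k ≤ NS q d := by
  have h1 := NS_geom (q := q) (by omega) d
  exact Nat.le_of_mul_le_mul_left (show (q - 1) * k ≤ (q - 1) * NS q d by omega) (by omega)

theorem mul_le_of_le_NS {q d k : ℕ} (hq : 2 ≤ q) (h : k ≤ NS q d) : (q - 1) * k ≤ q ^ d - 1 := by
  have h1 := NS_geom (q := q) (by omega) d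
  have := Nat.mul_le_mul_left (q - 1) h
  omega

theorem NS_mono {q a b : ℕ} (h : a ≤ b) : NS q a ≤ NS q b :=
  Finset.sum_le_sum_of_subset (Finset.range_subset_range.2 h)

theorem NS_shift {q : ℕ} (a t : ℕ) : q ^ t * NS q a ≤ NS q (a + t) := by
  induction a with
  | zero => simp [NS]
  | succ a ih =>
    rw [show a + 1 + t = a + t + 1 by omega, NS_succ, NS_succ, mul_add, ← pow_add, add_comm t a]
    omega

theorem pow_le_NS {q d : ℕ} (hd : 1 ≤ d) : q ^ (d - 1) ≤ NS q d := by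
  conv_rhs => rw [show d = d - 1 + 1 by omega, NS_succ]
  omega

theorem NS_three (q : ℕ) : NS q 3 = 1 + q + q ^ 2 := by simp [NS, Finset.sum_range_succ]

theorem semilinear_base {Q ε : ℕ} (hQ : 2 ≤ Q) (hε : 2 ≤ ε) (h : ¬ (Q = 2 ∧ ε = 2)) :
    ε * (Q + 1) ≤ Q ^ ε + 1 := by
  rcases (show 3 ≤ Q ∨ (Q = 2 ∧ 3 ≤ ε) by omega) with h3 | ⟨rfl, h3⟩
  · induction ε, hε using Nat.le_induction with
    | base => nlinarith
    | succ n hn ih =>
      have := ih (by omega)
      rw [pow_succ]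
      nlinarith [Nat.one_le_pow n Q (by omega)]
  · clear h hε hQ
    induction ε, h3 using Nat.le_induction with
    | base => norm_num
    | succ n hn ih => rw [pow_succ]; omega

theorem le_pow_mul {Q ε c i : ℕ} (hQ : 2 ≤ Q) (h : c * Q ≤ Q ^ ε) (hi : 1 ≤ i) : c * Q ^ i ≤ (Q ^ ε) ^ i := by
  obtain ⟨k, rfl⟩ : ∃ k, i = k + 1 := ⟨i - 1, by omega⟩
  rcases Nat.eq_zero_or_pos c with rfl | hc
  · simp
  have hQQ : Q ≤ Q ^ ε := (Nat.le_mul_of_pos_left Q hc).trans h
  rw [pow_succ, pow_succ]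
  calc c * (Q ^ k * Q) = Q ^ k * (c * Q) := by ring
    _ ≤ (Q ^ ε) ^ k * Q ^ ε := Nat.mul_le_mul (Nat.pow_le_pow_left hQQ k) h

/-- Field-times-diagonal automorphisms. -/
theorem semilinear {Q ε d : ℕ} (hQ : 2 ≤ Q) (hε : 1 ≤ ε) (hd : 2 ≤ d) (h24 : ¬ (d = 2 ∧ Q ^ ε = 4)) :
    ε * NS Q d ≤ NS (Q ^ ε) d := by
  rcases (show ε = 1 ∨ 2 ≤ ε by omega) with rfl | hε2
  · simp
  have hstep : ∀ n, 1 ≤ n → ε * NS Q n ≤ NS (Q ^ ε) n → ε * NS Q (n + 1) ≤ NS (Q ^ ε) (n + 1) := by
    intro n hn hn'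
    rw [NS_succ, NS_succ, mul_add]
    refine add_le_add hn' (le_pow_mul hQ ?_ hn)
    have h1 : ε ≤ Q ^ (ε - 1) := by
      have := (ε - 1).lt_pow_self (show 1 < Q by omega)
      omega
    calc ε * Q ≤ Q ^ (ε - 1) * Q := Nat.mul_le_mul_right _ h1
      _ = Q ^ ε := by rw [← pow_succ, show ε - 1 + 1 = ε by omega]
  by_cases h : Q = 2 ∧ ε = 2
  · obtain ⟨rfl, rfl⟩ := h
    clear hε2 hε
    rcases (show d = 2 ∨ 3 ≤ d by omega) with rfl | hd3
    · exact absurd ⟨rfl, rfl⟩ h24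
    clear h24 hd
    induction d, hd3 using Nat.le_induction with
    | base => decide
    | succ n hn ih => exact hstep n (by omega) ih
  · clear h24
    induction d, hd using Nat.le_induction with
    | base =>
      have := semilinear_base hQ hε2 h
      simp [NS, Finset.sum_range_succ]
      linarith
    | succ n hn ih => exact hstep n (by omega) ih

/-- Automorphisms involving the inverse transpose, with a non-trivial field part. -/
theorem semilinear_graph {Q ε d : ℕ} (hQ : 2 ≤ Q) (hε : 2 ≤ ε) (h : 3 ≤ ε ∨ 4 ≤ Q) (hd : 3 ≤ d) :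
    2 * (ε * NS Q d) ≤ NS (Q ^ ε) d := by
  have h4 : 4 * ε ≤ Q ^ (2 * ε - 2) := by
    rcases h with h | h
    · calc 4 * ε ≤ 2 ^ (2 * ε - 2) := by
            clear hε hd
            induction ε, h using Nat.le_induction with
            | base => norm_num
            | succ n hn ih =>
              rw [show 2 * (n + 1) - 2 = 2 * n - 2 + 2 by omega, pow_add]
              omega
        _ ≤ _ := Nat.pow_le_pow_left hQ _
    · calc 4 * ε ≤ 4 ^ (2 * ε - 2) := by
            clear hd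
            induction ε, hε using Nat.le_induction with
            | base => norm_num
            | succ n hn ih =>
              rw [show 2 * (n + 1) - 2 = 2 * n - 2 + 2 by omega, pow_add]
              omega
        _ ≤ _ := Nat.pow_le_pow_left h _
  induction d, hd using Nat.le_induction with
  | base =>
    rw [NS_three, NS_three, ← pow_mul, mul_comm ε 2]
    have e1 : Q ^ (2 * ε) = Q ^ (2 * ε - 2) * Q ^ 2 := by rw [← pow_add, show 2 * ε - 2 + 2 = 2 * ε by omega]
    have := Nat.mul_le_mul_right (Q ^ 2) h4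
    rw [← e1] at this
    have h2 : 1 + Q + Q ^ 2 ≤ 2 * Q ^ 2 := by nlinarith
    calc 2 * (ε * (1 + Q + Q ^ 2)) = 2 * ε * (1 + Q + Q ^ 2) := by ring
      _ ≤ 2 * ε * (2 * Q ^ 2) := Nat.mul_le_mul_left _ h2
      _ = 4 * ε * Q ^ 2 := by ring
      _ ≤ Q ^ (2 * ε) := this
      _ ≤ _ := Nat.le_add_left _ _
  | succ n hn ih =>
    rw [NS_succ, NS_succ, mul_add, mul_add, ← mul_assoc 2 ε (Q ^ n)]
    refine add_le_add ih ?_
    rw [← pow_mul, show ε * n = (2 * ε - 2) + (ε * n - (2 * ε - 2)) by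
      have : 2 * ε ≤ ε * n := by rw [mul_comm ε n]; exact Nat.mul_le_mul_right _ (by omega)
      omega, pow_add]
    refine Nat.mul_le_mul (by omega) (Nat.pow_le_pow_right (by omega) ?_)
    have : (ε - 1) * n + n = ε * n := by rw [← Nat.succ_mul, show (ε - 1).succ = ε by omega]
    have : (ε - 1) * 3 ≤ (ε - 1) * n := Nat.mul_le_mul_left _ hn
    omega

theorem sum_half (B : ℕ) (hB : 2 ≤ B) :
    ∑ m ∈ Finset.Ico 2 B, (1 / 2 : ℚ) ^ m ≤ 1 / 2 - (1 / 2) ^ (B - 1) := by
  induction B, hB using Nat.le_induction with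
  | base => norm_num
  | succ n hn ih =>
    rw [Finset.sum_Ico_succ_top hn, show n + 1 - 1 = n - 1 + 1 by omega, pow_succ]
    have : (1 / 2 : ℚ) ^ n = (1 / 2) ^ (n - 1) * (1 / 2) := by rw [← pow_succ, show n - 1 + 1 = n by omega]
    rw [this]
    linarith

/-- Products of `r ^ m + 1` over distinct exponents at least two. -/
theorem prod_succ_le {r : ℕ} (hr : 2 ≤ r) (M : Finset ℕ) (hM : ∀ m ∈ M, 2 ≤ m) :
    ∏ m ∈ M, (r ^ m + 1) ≤ 2 * r ^ (∑ m ∈ M, m) := by
  have hsum : ∑ m ∈ M, (1 / 2 : ℚ) ^ m ≤ 1 / 2 := by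
    refine le_trans (Finset.sum_le_sum_of_subset_of_nonneg (t := Finset.Ico 2 (M.sup id + 2)) (fun m hm =>
      Finset.mem_Ico.2 ⟨hM m hm, by
        have : id m ≤ M.sup id := Finset.le_sup hm
        simp at this; omega⟩) fun m _ _ => by positivity) ((sum_half _ (by omega)).trans ?_)
    linarith [show (0 : ℚ) ≤ (1 / 2) ^ (M.sup id + 2 - 1) by positivity]
  have key : ∀ S : Finset ℕ, S ⊆ M →
      (∏ m ∈ S, (1 + (1 / (r : ℚ)) ^ m)) * (1 - ∑ m ∈ S, (1 / 2 : ℚ) ^ m) ≤ 1 := by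
    intro S
    induction S using Finset.induction_on with
    | empty => simp
    | insert a S ha ih =>
      intro hS
      have h1 := ih ((Finset.subset_insert _ _).trans hS)
      rw [Finset.prod_insert ha, Finset.sum_insert ha]
      have hS' : ∑ m ∈ S, (1 / 2 : ℚ) ^ m ≤ 1 / 2 :=
        (Finset.sum_le_sum_of_subset_of_nonneg ((Finset.subset_insert _ _).trans hS)
          fun m _ _ => by positivity).trans hsum
      have ha' : (1 / (r : ℚ)) ^ a ≤ (1 / 2) ^ a := pow_le_pow_left₀ (by positivity) (by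
        rw [div_le_div_iff₀ (by positivity) (by norm_num)]
        norm_num
        exact_mod_cast hr) a
      set P := ∏ m ∈ S, (1 + (1 / (r : ℚ)) ^ m)
      set x := (1 / (r : ℚ)) ^ a
      set y := (1 / 2 : ℚ) ^ a
      set s := ∑ m ∈ S, (1 / 2 : ℚ) ^ m
      have hP : 0 ≤ P := Finset.prod_nonneg fun m _ => by positivity
      have hy : 0 ≤ y := by positivity
      have hx : 0 ≤ x := by positivity
      have hs : 0 ≤ s := Finset.sum_nonneg fun m _ => by positivity
      have h2 : (1 + x) * (1 - (y + s)) ≤ 1 - s := by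
        have : 0 ≤ x * (y + s) := by positivity
        nlinarith
      calc (1 + x) * P * (1 - (y + s)) = P * ((1 + x) * (1 - (y + s))) := by ring
        _ ≤ P * (1 - s) := mul_le_mul_of_nonneg_left h2 hP
        _ ≤ 1 := h1
  have h1 := key M subset_rfl
  have hP : 0 ≤ ∏ m ∈ M, (1 + (1 / (r : ℚ)) ^ m) := Finset.prod_nonneg fun m _ => by positivity
  have h2 : ∏ m ∈ M, (1 + (1 / (r : ℚ)) ^ m) ≤ 2 := by nlinarith
  have e : (↑(∏ m ∈ M, (r ^ m + 1)) : ℚ) = (∏ m ∈ M, (1 + (1 / (r : ℚ)) ^ m)) * (r : ℚ) ^ (∑ m ∈ M, m) := by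
    rw [← Finset.prod_pow_eq_pow_sum, ← Finset.prod_mul_distrib]
    push_cast
    refine Finset.prod_congr rfl fun m _ => ?_
    rw [add_mul, one_mul, div_pow, one_pow, one_div_mul_cancel (by positivity)]
  have : (↑(∏ m ∈ M, (r ^ m + 1)) : ℚ) ≤ ((2 * r ^ (∑ m ∈ M, m) : ℕ) : ℚ) := by
    rw [e]; push_cast; exact mul_le_mul_of_nonneg_right h2 (by positivity)
  exact_mod_cast this

theorem clog_le_pred (p u : ℕ) (hp : 1 < p) : p ^ Nat.clog p u ≤ p ^ (u - 1) := by
  refine Nat.pow_le_pow_right (by omega) (Nat.clog_le_of_le_pow ?_)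
  have := (u - 1).lt_pow_self hp
  omega

theorem clog_le_mul {p d : ℕ} (hp : 1 < p) (hd : 2 ≤ d) : p ^ Nat.clog p d ≤ p * (d - 1) := by
  have h1 := Nat.pow_pred_clog_lt_self hp (show 1 < d by omega)
  have h2 : 0 < Nat.clog p d := Nat.clog_pos hp hd
  rw [show Nat.clog p d = (Nat.clog p d).pred + 1 by simp [Nat.pred_eq_sub_one]; omega, pow_succ, mul_comm]
  exact Nat.mul_le_mul_left _ (by omega)

theorem single_root {q d : ℕ} (hq : 2 ≤ q) (hd : 3 ≤ d) (h32 : ¬ (d = 3 ∧ q = 2)) :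
    2 * (q * (d - 1)) ≤ NS q d := by
  rcases (show (d = 3 ∧ 3 ≤ q) ∨ 4 ≤ d by omega) with ⟨rfl, hq3⟩ | h4
  · rw [NS_three]; nlinarith
  clear h32 hd
  induction d, h4 using Nat.le_induction with
  | base => simp [NS, Finset.sum_range_succ]; nlinarith
  | succ n hn ih =>
    rw [NS_succ]
    have : q ^ 2 ≤ q ^ n := Nat.pow_le_pow_right (by omega) (by omega)
    have : 2 * q ≤ q ^ 2 := by nlinarith
    have e : n + 1 - 1 = (n - 1) + 1 := by omega
    rw [e, mul_add, mul_add, mul_one]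
    omega

end CfsgLib.AutOrder
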