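import Mathlib
import Cfsg.Agent.Lib.SpectrumPowers.SympBound
import Cfsg.Agent.Lib.PSLn.AutOrder.Arith

/-! Projective orders of matrices with self-reciprocal spectrum. -/

set_option autoImplicit false
set_option maxHeartbeats 800000

namespace CfsgLib.AutOrder

open Matrix Polynomial

variable {Ω : Type*} [Field Ω] [DecidableEq Ω] [IsAlgClosed Ω] (p : ℕ) [Fact p.Prime] [CharP Ω p] {d : ℕ}
  (M : Matrix (Fin d) (Fin d) Ω)

/-- Some small power is scalar. -/
def Small (N : ℕ) : Prop := ∃ k, 0 < k ∧ (∃ c : Ω, M ^ k = c • 1) ∧ 2 * k ≤ N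

omit [DecidableEq Ω] [CharP Ω p] in
theorem card_roots_eq : Multiset.card M.charpoly.roots = d := by
  rw [IsAlgClosed.card_roots_eq_natDegree, charpoly_natDegree_eq_dim, Fintype.card_fin]

omit [Fact p.Prime] [CharP Ω p] in
theorem count_add_card_le {x : Ω} (hx : x ∈ M.charpoly.roots) :
    M.charpoly.roots.count x + M.charpoly.roots.toFinset.card ≤ d + 1 := by
  set R := M.charpoly.roots
  have h := Multiset.toFinset_sum_count_eq R
  rw [card_roots_eq] at h
  have hxT : x ∈ R.toFinset := Multiset.mem_toFinset.2 hx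
  rw [← Finset.add_sum_erase _ _ hxT] at h
  have h2 : (R.toFinset.erase x).card • 1 ≤ ∑ y ∈ R.toFinset.erase x, R.count y :=
    Finset.card_nsmul_le_sum _ _ _ fun y hy => Multiset.count_pos.2 (Multiset.mem_toFinset.1 (Finset.mem_of_mem_erase hy))
  rw [Finset.card_erase_of_mem hxT, smul_eq_mul, mul_one] at h2
  omega

omit [Fact p.Prime] [CharP Ω p] in
theorem count_two_add_card_le {x y : Ω} (hne : x ≠ y) (hx : x ∈ M.charpoly.roots) (hy : y ∈ M.charpoly.roots)
    (he : M.charpoly.roots.count y = M.charpoly.roots.count x) :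
    2 * M.charpoly.roots.count x + M.charpoly.roots.toFinset.card ≤ d + 2 := by
  set R := M.charpoly.roots
  have h := Multiset.toFinset_sum_count_eq R
  rw [card_roots_eq] at h
  have hxT : x ∈ R.toFinset := Multiset.mem_toFinset.2 hx
  have hyT : y ∈ R.toFinset.erase x := Finset.mem_erase.2 ⟨hne.symm, Multiset.mem_toFinset.2 hy⟩
  rw [← Finset.add_sum_erase _ _ hxT, ← Finset.add_sum_erase _ _ hyT, he] at h
  have h2 : ((R.toFinset.erase x).erase y).card • 1 ≤ ∑ z ∈ (R.toFinset.erase x).erase y, R.count z :=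
    Finset.card_nsmul_le_sum _ _ _ fun z hz => Multiset.count_pos.2
      (Multiset.mem_toFinset.1 (Finset.mem_of_mem_erase (Finset.mem_of_mem_erase hz)))
  rw [Finset.card_erase_of_mem hyT, Finset.card_erase_of_mem hxT, smul_eq_mul, mul_one] at h2
  omega

/-- The largest multiplicity. -/
theorem exists_max (hd : 1 ≤ d) : ∃ x ∈ M.charpoly.roots,
    ∀ t ∈ M.charpoly.roots, M.charpoly.roots.count t ≤ M.charpoly.roots.count x := by
  obtain ⟨t, ht⟩ := Multiset.card_pos_iff_exists_mem.1 (show 0 < Multiset.card M.charpoly.roots by rw [card_roots_eq]; omega)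
  obtain ⟨x, hx, h⟩ := Finset.exists_max_image M.charpoly.roots.toFinset (fun y => M.charpoly.roots.count y)
    ⟨t, Multiset.mem_toFinset.2 ht⟩
  exact ⟨x, Multiset.mem_toFinset.1 hx, fun y hy => h y (Multiset.mem_toFinset.2 hy)⟩

theorem small_of_pow (hd : 1 ≤ d) {K u N : ℕ} (hK : 0 < K) (h : ∀ t ∈ M.charpoly.roots, t ^ K = 1 ∧ M.charpoly.roots.count t ≤ u)
    (hle : 2 * (K * p ^ (u - 1)) ≤ N) : Small M N := by
  haveI : Nonempty (Fin d) := ⟨⟨0, hd⟩⟩
  have hp : p.Prime := Fact.out
  refine ⟨p ^ Nat.clog p u * K, Nat.mul_pos (pow_pos hp.pos _) hK,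
    ⟨1, by rw [one_smul]; exact CfsgLib.SpectrumPowers.pow_eq_one_of_roots p M hK h⟩, le_trans ?_ hle⟩
  rw [mul_comm _ K]
  exact Nat.mul_le_mul_left _ (Nat.mul_le_mul_left _ (clog_le_pred p u hp.one_lt))

theorem small_of_single (hd : 1 ≤ d) {c : Ω} (h : ∀ t ∈ M.charpoly.roots, t = c) {N : ℕ}
    (hle : 2 * p ^ Nat.clog p d ≤ N) : Small M N := by
  haveI : Nonempty (Fin d) := ⟨⟨0, hd⟩⟩
  have hp : p.Prime := Fact.out
  refine ⟨p ^ Nat.clog p d, pow_pos hp.pos _, ⟨c ^ (p ^ Nat.clog p d), ?_⟩, hle⟩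
  have hR : M.charpoly.roots = Multiset.replicate d c :=
    Multiset.eq_replicate.2 ⟨card_roots_eq M, h⟩
  have hcp : M.charpoly = (X - C c) ^ d := by
    rw [(IsAlgClosed.splits M.charpoly).eq_prod_roots_of_monic (charpoly_monic M), hR, Multiset.map_replicate,
      Multiset.prod_replicate]
  have h0 := Matrix.aeval_self_charpoly M
  rw [hcp, map_pow, map_sub, aeval_X, aeval_C, Algebra.algebraMap_eq_smul_one] at h0
  have h1 := pow_eq_zero_of_le (Nat.le_pow_clog hp.one_lt d) h0
  rw [sub_pow_char_pow_of_commute (p := p) _ ((Commute.one_right M).smul_right c), _root_.smul_pow, one_pow, sub_eq_zero] at h1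
  exact h1

/-- Spectrum stable under `x ↦ x ^ (-r)`, `q = r ^ 2`. -/
theorem bound_herm (hd : 3 ≤ d) {r : ℕ} (hr : 2 ≤ r) (hpr : p ≤ r) (f : Ω →+* Ω) (hf : ∀ x, f x = x ^ r)
    (h0 : (0 : Ω) ∉ M.charpoly.roots)
    (hσ : M.charpoly.roots.map (fun x => (x ^ r)⁻¹) = M.charpoly.roots) :
    Small M (NS (r ^ 2) d) := by
  classical
  set R := M.charpoly.roots with hR
  set T := R.toFinset
  let σ : Ω → Ω := fun x => (x ^ r)⁻¹
  have hσinj : Function.Injective σ := fun x y h => f.injective (by
    rw [hf, hf]; exact inv_injective h)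
  have hT : ∀ x ∈ T, σ x ∈ T := fun x hx => by
    rw [Multiset.mem_toFinset] at hx ⊢
    have := Multiset.mem_map_of_mem σ hx
    rwa [hσ] at this
  have hit : ∀ (x : Ω) (i : ℕ), x ∈ T → σ^[i] x ∈ T := fun x i hx => by
    induction i with
    | zero => exact hx
    | succ i ih => rw [Function.iterate_succ_apply']; exact hT _ ih
  have hval : ∀ (x : Ω) (i : ℕ), σ^[i] x = if Even i then x ^ r ^ i else (x ^ r ^ i)⁻¹ := fun x i => by
    induction i with
    | zero => simp
    | succ i ih =>
      rw [Function.iterate_succ_apply', ih]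
      by_cases h : Even i
      · rw [if_pos h, if_neg (by rw [Nat.even_add_one]; exact not_not.2 h)]
        simp only [σ, ← pow_mul, pow_succ]
      · rw [if_neg h, if_pos (by rw [Nat.even_add_one]; exact h)]
        simp only [σ, inv_pow, inv_inv, ← pow_mul, pow_succ]
  have hper : ∀ x ∈ T, x ∈ Function.periodicPts σ := fun x hx => by
    obtain ⟨a, -, b, -, hab, e⟩ := Finset.exists_ne_map_eq_of_card_lt_of_maps_to
      (s := Finset.range (T.card + 1)) (t := T) (f := fun i => σ^[i] x) (by simp) (fun i _ => hit x i hx)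
    wlog hlt : a < b generalizing a b
    · exact this b a hab.symm e.symm (by omega)
    refine ⟨b - a, by omega, hσinj.iterate a ?_⟩
    rw [← Function.iterate_add_apply, show a + (b - a) = b by omega]
    exact e.symm
  let mm : Ω → ℕ := Function.minimalPeriod σ
  have hmm : ∀ x ∈ T, 0 < mm x := fun x hx => Function.minimalPeriod_pos_of_mem_periodicPts (hper x hx)
  have hne : ∀ x ∈ T, x ≠ 0 := fun x hx h => h0 (h ▸ Multiset.mem_toFinset.1 hx)
  let g : ℕ → ℕ := fun m => if Even m then r ^ m - 1 else r ^ m + 1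
  have hg : ∀ x ∈ T, x ^ g (mm x) = 1 := by
    intro x hx
    have h := Function.iterate_minimalPeriod (f := σ) (x := x)
    rw [hval] at h
    simp only [g, mm]
    split_ifs at h ⊢ with he
    · refine mul_left_cancel₀ (hne x hx) ?_
      rw [← pow_succ', Nat.sub_add_cancel (Nat.one_le_pow _ _ (by omega)), mul_one, h]
    · rw [pow_succ']
      nth_rewrite 1 [← h]
      exact inv_mul_cancel₀ (pow_ne_zero _ (hne x hx))
  have horb : ∀ x ∈ T, mm x ≤ (T.filter fun y => mm y = mm x).card := by
    intro x hx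
    have hsub : (Finset.range (mm x)).image (fun i => σ^[i] x) ⊆ T.filter fun y => mm y = mm x := by
      intro y hy
      obtain ⟨i, -, rfl⟩ := Finset.mem_image.1 hy
      exact Finset.mem_filter.2 ⟨hit x i hx, Function.minimalPeriod_apply_iterate (hper x hx) i⟩
    refine le_trans (le_of_eq ?_) (Finset.card_le_card hsub)
    rw [Finset.card_image_of_injOn, Finset.card_range]
    intro a ha b hb h
    simp only [Finset.coe_range, Set.mem_Iio] at ha hb
    exact Function.iterate_injOn_Iio_minimalPeriod ha hb h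
  have hdvd : ∀ m, (r + 1) ∣ g m := by
    intro m
    have h : ((r : ℤ) + 1) ∣ (r : ℤ) ^ m - (-1) ^ m := by
      simpa using sub_dvd_pow_sub_pow (r : ℤ) (-1) m
    rw [← Int.natCast_dvd_natCast]
    simp only [g]
    split_ifs with he
    · rw [he.neg_one_pow] at h
      push_cast [Nat.cast_sub (Nat.one_le_pow m r (by omega))]
      exact h
    · rw [(Nat.not_even_iff_odd.1 he).neg_one_pow] at h
      push_cast
      simpa using h
  have hgle : ∀ m, g m ≤ r ^ m + 1 := fun m => by simp only [g]; split_ifs <;> omega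
  set K := (T.image mm).filter fun m => 2 ≤ m
  obtain ⟨x0, hx0, hmax⟩ := exists_max M (by omega)
  rw [← hR] at hx0 hmax
  set u := R.count x0
  have hu : 1 ≤ u := Multiset.count_pos.2 hx0
  have hcu : u + T.card ≤ d + 1 := count_add_card_le M hx0
  have hNS : r ^ (2 * d - 4) * (r ^ 2 + 1) ≤ NS (r ^ 2) d := by
    have h := NS_shift (q := r ^ 2) 2 (d - 2)
    rw [show 2 + (d - 2) = d by omega, ← pow_mul, show 2 * (d - 2) = 2 * d - 4 by omega] at h
    simpa [NS, Finset.sum_range_succ, add_comm] using h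
  have htwo : 2 ≤ r ^ (d - 2) := le_trans (by simp) ((Nat.pow_le_pow_left hr _).trans' (Nat.le_self_pow (by omega) 2))
  have hpu : p ^ (u - 1) ≤ r ^ (u - 1) := Nat.pow_le_pow_left hpr _
  have e24 : r ^ (2 * d - 4) = r ^ (d - 2) * r ^ (d - 2) := by rw [← pow_add]; congr 1; omega
  rcases K.eq_empty_or_nonempty with hK | hK
  · have hm1 : ∀ t ∈ R, t ^ (r + 1) = 1 := by
      intro t ht
      have htT : t ∈ T := Multiset.mem_toFinset.2 ht
      have h1 : mm t = 1 := by
        by_contra h
        have : mm t ∈ K := Finset.mem_filter.2 ⟨Finset.mem_image_of_mem _ htT, by have := hmm t htT; omega⟩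
        rw [hK] at this
        exact Finset.notMem_empty _ this
      have := hg t htT
      rwa [h1, show g 1 = r + 1 by simp [g]] at this
    by_cases hcard : 2 ≤ T.card
    · refine small_of_pow p M (by omega) (K := r + 1) (u := u) (by omega) (fun t ht => ⟨hm1 t ht, hmax t ht⟩) ?_
      have h1 : r ^ (u - 1) ≤ r ^ (d - 2) := Nat.pow_le_pow_right (by omega) (by omega)
      calc 2 * ((r + 1) * p ^ (u - 1)) ≤ r ^ (d - 2) * ((r ^ 2 + 1) * r ^ (d - 2)) :=
            Nat.mul_le_mul htwo (Nat.mul_le_mul (by nlinarith) (hpu.trans h1))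
        _ = r ^ (2 * d - 4) * (r ^ 2 + 1) := by rw [e24]; ring
        _ ≤ _ := hNS
    · refine small_of_single p M (by omega) (c := x0) (fun t ht => ?_) ?_
      · exact Finset.card_le_one.1 (show T.card ≤ 1 by omega) t (Multiset.mem_toFinset.2 ht) x0 (Multiset.mem_toFinset.2 hx0)
      calc 2 * p ^ Nat.clog p d ≤ r ^ (d - 1) * r ^ (d - 1) :=
            Nat.mul_le_mul (htwo.trans (Nat.pow_le_pow_right (by omega) (by omega)))
              ((clog_le_pred p d (Fact.out : p.Prime).one_lt).trans (Nat.pow_le_pow_left hpr _))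
        _ = (r ^ 2) ^ (d - 1) := by rw [← pow_add, ← pow_mul]; congr 1; omega
        _ ≤ _ := pow_le_NS (by omega)
  · have hsum : ∑ m ∈ K, m ≤ T.card := by
      calc ∑ m ∈ K, m ≤ ∑ m ∈ K, (T.filter fun y => mm y = m).card := Finset.sum_le_sum fun m hm => by
            obtain ⟨x, hx, rfl⟩ := Finset.mem_image.1 (Finset.mem_filter.1 hm).1
            exact horb x hx
        _ ≤ ∑ m ∈ T.image mm, (T.filter fun y => mm y = m).card :=
            Finset.sum_le_sum_of_subset (Finset.filter_subset _ _)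
        _ = T.card := (Finset.card_eq_sum_card_image mm T).symm
    have hKpow : ∀ t ∈ R, t ^ (∏ m ∈ K, g m) = 1 := by
      intro t ht
      have htT : t ∈ T := Multiset.mem_toFinset.2 ht
      have hd' : g (mm t) ∣ ∏ m ∈ K, g m := by
        by_cases h : 2 ≤ mm t
        · exact Finset.dvd_prod_of_mem g (Finset.mem_filter.2 ⟨Finset.mem_image_of_mem _ htT, h⟩)
        · have h1 : mm t = 1 := by have := hmm t htT; omega
          obtain ⟨m, hm⟩ := hK
          rw [h1, show g 1 = r + 1 by simp [g]]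
          exact (hdvd m).trans (Finset.dvd_prod_of_mem g hm)
      obtain ⟨e, he⟩ := hd'
      rw [he, pow_mul, hg t htT, one_pow]
    have hKpos : 0 < ∏ m ∈ K, g m := Finset.prod_pos fun m hm => by
      have h2 := (Finset.mem_filter.1 hm).2
      have : 2 ≤ r ^ m := hr.trans (Nat.le_self_pow (by omega) r)
      simp only [g]; split_ifs <;> omega
    refine small_of_pow p M (by omega) hKpos (fun t ht => ⟨hKpow t ht, hmax t ht⟩) ?_
    refine le_trans ?_ hNS
    have hA : ∑ m ∈ K, m + (u - 1) ≤ d := by omega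
    by_cases hc : K.card = 1
    · obtain ⟨m, hm⟩ := Finset.card_eq_one.1 hc
      rw [hm, Finset.sum_singleton] at hA
      have hm2 : 2 ≤ m := (Finset.mem_filter.1 (hm ▸ Finset.mem_singleton_self m : m ∈ K)).2
      rw [hm, Finset.prod_singleton]
      calc 2 * (g m * p ^ (u - 1)) ≤ r ^ (d - 2) * ((r ^ m + 1) * r ^ (u - 1)) :=
            Nat.mul_le_mul htwo (Nat.mul_le_mul (hgle m) hpu)
        _ ≤ r ^ (d - 2) * (r ^ (d - 2) * r ^ 2 + r ^ (d - 2)) := by
            refine Nat.mul_le_mul_left _ ?_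
            rw [add_mul, one_mul, ← pow_add, ← pow_add]
            exact add_le_add (Nat.pow_le_pow_right (by omega) (by omega)) (Nat.pow_le_pow_right (by omega) (by omega))
        _ = _ := by rw [e24]; ring
    · have hsub : K ⊆ Finset.Icc 2 (∑ m ∈ K, m) := fun m hm => Finset.mem_Icc.2
        ⟨(Finset.mem_filter.1 hm).2, Finset.single_le_sum (f := fun m => m) (fun i _ => Nat.zero_le i) hm⟩
      obtain ⟨a, ha, b, hb, hab⟩ := Finset.one_lt_card.1 (show 1 < K.card by have := hK.card_pos; omega)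
      have hab' : a + b ≤ ∑ m ∈ K, m := by
        rw [← Finset.sum_pair (f := fun m => m) hab]
        exact Finset.sum_le_sum_of_subset (by intro z hz; simp at hz; rcases hz with rfl | rfl <;> assumption)
      have ha2 := (Finset.mem_filter.1 ha).2
      have hb2 := (Finset.mem_filter.1 hb).2
      have h4 : 4 ≤ r ^ (d - 2) := le_trans (by norm_num) (le_trans (Nat.pow_le_pow_left hr 2)
        (Nat.pow_le_pow_right (by omega) (by omega)))
      calc 2 * ((∏ m ∈ K, g m) * p ^ (u - 1)) ≤ 2 * ((2 * r ^ (∑ m ∈ K, m)) * r ^ (u - 1)) :=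
            Nat.mul_le_mul_left _ (Nat.mul_le_mul ((Finset.prod_le_prod' fun m _ => hgle m).trans
              (prod_succ_le hr K fun m hm => (Finset.mem_filter.1 hm).2)) hpu)
        _ = 4 * r ^ (∑ m ∈ K, m + (u - 1)) := by rw [pow_add]; ring
        _ ≤ r ^ (d - 2) * (r ^ (d - 2) * r ^ 2) :=
            Nat.mul_le_mul h4 (by rw [← pow_add]; exact Nat.pow_le_pow_right (by omega) (by omega))
        _ ≤ _ := by rw [e24, ← mul_assoc, Nat.mul_add]; exact Nat.le_add_right _ _

/-- Spectrum stable under `x ↦ x ^ q` and `x ↦ x⁻¹`. -/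
theorem bound_sym (hd : 3 ≤ d) {q : ℕ} (hq : 2 ≤ q) (hpq : p ≤ q) (h32 : ¬ (d = 3 ∧ q = 2))
    (hodd : p ≠ 2 → Odd q) (f : Ω →+* Ω) (hf : ∀ x, f x = x ^ q) (h0 : (0 : Ω) ∉ M.charpoly.roots)
    (hfr : M.charpoly.roots.map (fun x => x ^ q) = M.charpoly.roots)
    (hinv : M.charpoly.roots.map (·⁻¹) = M.charpoly.roots) :
    Small M (NS q d) := by
  classical
  set R := M.charpoly.roots with hR
  set T := R.toFinset
  have hp : p.Prime := Fact.out
  have hcinv : ∀ x, R.count x⁻¹ = R.count x := fun x => by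
    conv_lhs => rw [← hinv]
    exact Multiset.count_map_eq_count' _ _ inv_injective x
  have hfinj : ∀ i, Function.Injective fun x : Ω => x ^ q ^ i := fun i => by
    induction i with
    | zero => intro a b h; simpa using h
    | succ i ih =>
      intro a b h
      simp only [pow_succ, pow_mul] at h
      exact ih (f.injective (by rw [hf, hf]; exact h))
  have hmemq : ∀ x ∈ T, ∀ i, x ^ q ^ i ∈ T := fun x hx i => by
    induction i with
    | zero => simpa using hx
    | succ i ih =>
      rw [Multiset.mem_toFinset] at ih ⊢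
      rw [pow_succ, pow_mul]
      have := Multiset.mem_map_of_mem (fun x : Ω => x ^ q) ih
      rwa [hfr] at this
  have hmemi : ∀ x ∈ T, x⁻¹ ∈ T := fun x hx => by
    rw [Multiset.mem_toFinset] at hx ⊢
    have := Multiset.mem_map_of_mem (fun x : Ω => x⁻¹) hx
    rwa [hinv] at this
  have hne : ∀ x ∈ T, x ≠ 0 := fun x hx h => h0 (h ▸ Multiset.mem_toFinset.1 hx)
  set T' := T.filter fun x => x ≠ x⁻¹ with hT'
  obtain ⟨x0, hx0, hmax⟩ := exists_max M (by omega)
  rw [← hR] at hx0 hmax
  set u := R.count x0 with hud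
  have hu : 1 ≤ u := Multiset.count_pos.2 hx0
  have hcu : u + T.card ≤ d + 1 := count_add_card_le M hx0
  have hpu : p ^ (u - 1) ≤ q ^ (u - 1) := Nat.pow_le_pow_left hpq _
  have hsq : ∀ x ∈ T, x ∉ T' → x = 1 ∨ x = -1 := by
    intro x hx hx'
    have h : x = x⁻¹ := by
      by_contra h
      exact hx' (Finset.mem_filter.2 ⟨hx, h⟩)
    have h2 : x * x = 1 := by nth_rewrite 2 [h]; exact mul_inv_cancel₀ (hne x hx)
    exact mul_self_eq_one_iff.1 h2
  rcases T'.eq_empty_or_nonempty with hT0 | hT0
  · by_cases hcard : 2 ≤ T.card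
    · have hall : ∀ x ∈ T, x = 1 ∨ x = -1 := fun x hx => hsq x hx (by rw [hT0]; exact Finset.notMem_empty _)
      have hq3 : 3 ≤ q := by
        by_contra hcon
        have hp2 : p = 2 := by
          have := hp.two_le
          omega
        obtain ⟨a, ha, b, hb, hab⟩ := Finset.one_lt_card.1 (show 1 < T.card by omega)
        haveI : CharP Ω 2 := hp2 ▸ ‹CharP Ω p›
        apply hab
        rcases hall a ha with rfl | rfl <;> rcases hall b hb with rfl | rfl <;> simp [CharTwo.neg_eq]
      refine small_of_pow p M (by omega) (K := 2) (u := u) two_pos (fun t ht => ⟨?_, hmax t ht⟩) ?_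
      · rcases hall t (Multiset.mem_toFinset.2 ht) with rfl | rfl <;> simp
      calc 2 * (2 * p ^ (u - 1)) ≤ q ^ (d - 2) * NS q 2 := by
            rw [show NS q 2 = 1 + q by simp [NS, Finset.sum_range_succ], ← mul_assoc, mul_comm (q ^ (d - 2))]
            exact Nat.mul_le_mul (by omega) (hpu.trans (Nat.pow_le_pow_right (by omega) (by omega)))
        _ ≤ NS q d := by
            have := NS_shift (q := q) 2 (d - 2)
            rwa [show 2 + (d - 2) = d by omega] at this
    · refine small_of_single p M (by omega) (c := x0) (fun t ht => ?_) ?_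
      · exact Finset.card_le_one.1 (show T.card ≤ 1 by omega) t (Multiset.mem_toFinset.2 ht) x0 (Multiset.mem_toFinset.2 hx0)
      refine le_trans (Nat.mul_le_mul_left 2 ((clog_le_mul hp.one_lt (by omega)).trans (Nat.mul_le_mul_right _ hpq))) ?_
      exact single_root hq hd h32
  -- keys
  have hex : ∀ x ∈ T', ∃ j, 1 ≤ j ∧ (x ^ (q ^ j + 1) = 1 ∨ x ^ (q ^ j - 1) = 1) := by
    intro x hx
    have hxT := (Finset.mem_filter.1 hx).1
    obtain ⟨a, -, b, -, hab, e⟩ := Finset.exists_ne_map_eq_of_card_lt_of_maps_to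
      (s := Finset.range (T.card + 1)) (t := T) (f := fun i => x ^ q ^ i) (by simp) (fun i _ => hmemq x hxT i)
    wlog hlt : a < b generalizing a b
    · exact this b a hab.symm e.symm (by omega)
    refine ⟨b - a, by omega, Or.inr (mul_left_cancel₀ (hne x hxT) ?_)⟩
    rw [← pow_succ', Nat.sub_add_cancel (Nat.one_le_pow _ _ (by omega)), mul_one]
    apply hfinj a
    show (x ^ q ^ (b - a)) ^ q ^ a = x ^ q ^ a
    rw [← pow_mul, ← pow_add, Nat.sub_add_cancel hlt.le]
    exact e.symm
  let key : Ω → ℕ × Bool := fun x =>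
    if h : ∃ j, 1 ≤ j ∧ (x ^ (q ^ j + 1) = 1 ∨ x ^ (q ^ j - 1) = 1) then
      (Nat.find h, decide (x ^ (q ^ Nat.find h + 1) = 1)) else (0, true)
  let val : ℕ × Bool → ℕ := fun k => if k.2 then q ^ k.1 + 1 else q ^ k.1 - 1
  have hkey : ∀ x ∈ T', 1 ≤ (key x).1 ∧ x ^ val (key x) = 1 ∧
      ∀ j, 1 ≤ j → j < (key x).1 → x ^ (q ^ j + 1) ≠ 1 ∧ x ^ (q ^ j - 1) ≠ 1 := by
    intro x hx
    have h := hex x hx
    simp only [key, dif_pos h]
    refine ⟨(Nat.find_spec h).1, ?_, fun j hj hlt => ?_⟩
    · by_cases hp1 : x ^ (q ^ Nat.find h + 1) = 1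
      · simpa [val, hp1] using hp1
      · simpa [val, hp1] using (Nat.find_spec h).2.resolve_left hp1
    · have := Nat.find_min h hlt
      push Not at this
      exact this hj
  have horb : ∀ x ∈ T', 2 * (key x).1 ≤ (T'.filter fun y => key y = key x).card := by
    intro x hx
    obtain ⟨hxT, hxi⟩ := Finset.mem_filter.1 hx
    have hx0' := hne x hxT
    let em : Fin (key x).1 × Bool → Ω := fun z => if z.2 then x ^ q ^ (z.1 : ℕ) else (x ^ q ^ (z.1 : ℕ))⁻¹
    have hpow : ∀ (i n : ℕ), (x ^ q ^ i) ^ n = 1 ↔ x ^ n = 1 := fun i n => by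
      rw [← pow_mul, mul_comm, pow_mul]
      constructor
      · intro h; apply hfinj i; simpa using h
      · intro h; rw [h, one_pow]
    have hemn : ∀ z n, em z ^ n = 1 ↔ x ^ n = 1 := fun z n => by
      simp only [em]
      split_ifs
      · exact hpow _ _
      · rw [inv_pow, inv_eq_one, hpow]
    have hmem : ∀ z, em z ∈ T'.filter fun y => key y = key x := by
      intro z
      have hkz : key (em z) = key x := by simp only [key, hemn]
      refine Finset.mem_filter.2 ⟨Finset.mem_filter.2 ⟨?_, ?_⟩, hkz⟩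
      · simp only [em]; split_ifs
        · exact hmemq x hxT _
        · exact hmemi _ (hmemq x hxT _)
      · intro h
        apply hxi
        have hz0 : em z ≠ 0 := by simp only [em]; split_ifs <;> simp [hx0']
        have h2 : em z ^ 2 = 1 := by rw [sq]; nth_rewrite 2 [h]; exact mul_inv_cancel₀ hz0
        rw [hemn, sq] at h2
        exact eq_inv_of_mul_eq_one_left h2
    have hinj : Function.Injective em := by
      have aux : ∀ (a b : ℕ), a ≤ b → b < (key x).1 →
          (x ^ q ^ a = x ^ q ^ b → a = b) ∧ x ^ q ^ a ≠ (x ^ q ^ b)⁻¹ := by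
        intro a b hab hb
        have hmin := (hkey x hx).2.2 (b - a)
        have e : x ^ q ^ b = (x ^ q ^ (b - a)) ^ q ^ a := by
          rw [← pow_mul, ← pow_add, Nat.sub_add_cancel hab]
        rw [e]
        refine ⟨fun h => ?_, fun h => ?_⟩
        · by_contra hne'
          refine (hmin (by omega) (by omega)).2 (mul_left_cancel₀ hx0' ?_)
          rw [← pow_succ', Nat.sub_add_cancel (Nat.one_le_pow _ _ (by omega)), mul_one]
          exact (hfinj a h).symm
        · rw [← inv_pow] at h
          have h' := hfinj a h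
          rcases eq_or_lt_of_le hab with rfl | hlt
          · apply hxi; simpa using h'
          · refine (hmin (by omega) (by omega)).1 ?_
            rw [pow_succ']
            nth_rewrite 1 [h']
            exact inv_mul_cancel₀ (pow_ne_zero _ hx0')
      have aux' : ∀ (a b : ℕ), a < (key x).1 → b < (key x).1 →
          (x ^ q ^ a = x ^ q ^ b → a = b) ∧ x ^ q ^ a ≠ (x ^ q ^ b)⁻¹ := by
        intro a b ha hb
        rcases le_total a b with h | h
        · exact aux a b h hb
        · obtain ⟨h1, h2⟩ := aux b a h ha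
          exact ⟨fun e => (h1 e.symm).symm, fun e => h2 (by rw [e, inv_inv])⟩
      rintro ⟨a, sa⟩ ⟨b, sb⟩ h
      obtain ⟨h1, h2⟩ := aux' a b a.2 b.2
      obtain ⟨h3, h4⟩ := aux' b a b.2 a.2
      cases sa <;> cases sb <;> simp only [em, if_true, if_false, Bool.false_eq_true] at h
      · exact Prod.ext (Fin.ext (h1 (inv_injective h))) rfl
      · exact absurd h.symm h4
      · exact absurd h h2
      · exact Prod.ext (Fin.ext (h1 h)) rfl
    have h := Finset.card_le_card_of_injOn em (fun z _ => hmem z) (hinj.injOn (s := ((Finset.univ : Finset (Fin (key x).1 × Bool)) : Set _)))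
    rw [Finset.card_univ, Fintype.card_prod, Fintype.card_fin, Fintype.card_bool] at h
    omega
  set K := T'.image key with hK
  set J := ∑ k ∈ K, k.1 with hJ
  have hKne : K.Nonempty := hT0.image key
  have hk1 : ∀ k ∈ K, 1 ≤ k.1 := fun k hk => by
    obtain ⟨x, hx, rfl⟩ := Finset.mem_image.1 hk
    exact (hkey x hx).1
  have h2J : 2 * J ≤ T'.card := by
    rw [hJ, Finset.mul_sum, Finset.card_eq_sum_card_image key T']
    refine Finset.sum_le_sum fun k hk => ?_
    obtain ⟨x, hx, rfl⟩ := Finset.mem_image.1 hk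
    exact horb x hx
  have hJ1 : 1 ≤ J := by
    obtain ⟨k, hk⟩ := hKne
    exact (hk1 k hk).trans (Finset.single_le_sum (f := fun k : ℕ × Bool => k.1) (fun i _ => Nat.zero_le _) hk)
  have hvpos : ∀ k ∈ K, 0 < val k := fun k hk => by
    have : 2 ≤ q ^ k.1 := hq.trans (Nat.le_self_pow (by have := hk1 k hk; omega) q)
    simp only [val]; split_ifs <;> omega
  have hpow : ∀ t ∈ R, t ^ (∏ k ∈ K, val k) = 1 := by
    intro t ht
    have htT : t ∈ T := Multiset.mem_toFinset.2 ht
    by_cases h : t ∈ T'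
    · obtain ⟨e, he⟩ := Finset.dvd_prod_of_mem val (Finset.mem_image_of_mem key h)
      rw [he, pow_mul, (hkey t h).2.1, one_pow]
    · rcases hsq t htT h with rfl | rfl
      · simp
      · by_cases hp2 : p = 2
        · haveI : CharP Ω 2 := hp2 ▸ ‹CharP Ω p›
          simp [CharTwo.neg_eq]
        · obtain ⟨k, hk⟩ := hKne
          refine Even.neg_one_pow (even_iff_two_dvd.2 (dvd_trans (even_iff_two_dvd.1 ?_) (Finset.dvd_prod_of_mem val hk)))
          have ho : Odd (q ^ k.1) := (hodd hp2).pow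
          simp only [val]
          split_ifs
          · exact ho.add_odd odd_one
          · exact Nat.Odd.sub_odd ho odd_one
  refine small_of_pow p M (by omega) (Finset.prod_pos hvpos) (fun t ht => ⟨hpow t ht, hmax t ht⟩) ?_
  have hvle : ∀ k ∈ K, val k ≤ q ^ k.1 + 1 := fun k _ => by simp only [val]; split_ifs <;> omega
  -- the bound on the product
  have hC : 2 * ∏ k ∈ K, val k ≤ NS q (2 * J + 1) ∧ (2 ≤ J → 2 * ∏ k ∈ K, val k ≤ NS q (2 * J)) := by
    have hcardJ : K.card • 1 ≤ J := Finset.card_nsmul_le_sum _ _ _ hk1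
    rw [smul_eq_mul, mul_one] at hcardJ
    have hgen : ∏ k ∈ K, val k ≤ 3 * q ^ J := by
      set Kp := K.filter fun k => k.2 = true
      set Km := K.filter fun k => ¬ k.2 = true
      have hsplit : ∏ k ∈ K, val k = (∏ k ∈ Kp, val k) * ∏ k ∈ Km, val k :=
        (Finset.prod_filter_mul_prod_filter_not K _ _).symm
      have hJsplit : J = ∑ k ∈ Kp, k.1 + ∑ k ∈ Km, k.1 := (Finset.sum_filter_add_sum_filter_not K _ _).symm
      have hm : ∏ k ∈ Km, val k ≤ q ^ ∑ k ∈ Km, k.1 := by
        rw [← Finset.prod_pow_eq_pow_sum]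
        refine Finset.prod_le_prod' fun k hk => ?_
        simp only [val, if_neg (Finset.mem_filter.1 hk).2]
        omega
      set A := Kp.image Prod.fst
      have hinjA : Set.InjOn Prod.fst (Kp : Set (ℕ × Bool)) := fun a ha b hb h => Prod.ext h
        ((Finset.mem_filter.1 ha).2.trans (Finset.mem_filter.1 hb).2.symm)
      have hpA : ∏ k ∈ Kp, val k = ∏ j ∈ A, (q ^ j + 1) := by
        rw [Finset.prod_image hinjA]
        exact Finset.prod_congr rfl fun k hk => by simp only [val, if_pos (Finset.mem_filter.1 hk).2]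
      have hsA : ∑ k ∈ Kp, k.1 = ∑ j ∈ A, j := (Finset.sum_image (f := fun j => j) hinjA).symm
      have hA1 : ∀ j ∈ A, 1 ≤ j := fun j hj => by
        obtain ⟨k, hk, rfl⟩ := Finset.mem_image.1 hj
        exact hk1 k (Finset.mem_filter.1 hk).1
      have hbig := prod_succ_le hq (A.erase 1) fun j hj => by
        have := hA1 j (Finset.mem_of_mem_erase hj)
        have := Finset.ne_of_mem_erase hj
        omega
      have hA3 : ∏ j ∈ A, (q ^ j + 1) ≤ 3 * q ^ ∑ j ∈ A, j := by
        by_cases h1 : 1 ∈ A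
        · rw [← Finset.mul_prod_erase A _ h1, ← Finset.add_sum_erase A _ h1, pow_add, pow_one]
          calc (q + 1) * ∏ j ∈ A.erase 1, (q ^ j + 1) ≤ (q + 1) * (2 * q ^ ∑ j ∈ A.erase 1, j) :=
                Nat.mul_le_mul_left _ hbig
            _ = 2 * (q + 1) * q ^ ∑ j ∈ A.erase 1, j := by ring
            _ ≤ 3 * q * q ^ ∑ j ∈ A.erase 1, j := Nat.mul_le_mul_right _ (by omega)
            _ = _ := by ring
        · rw [Finset.erase_eq_of_notMem h1] at hbig
          exact hbig.trans (Nat.mul_le_mul_right _ (by norm_num))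
      rw [hsplit, hJsplit, pow_add, ← mul_assoc]
      exact Nat.mul_le_mul (by rw [hpA, hsA]; exact hA3) hm
    have h6 : 3 ≤ J → 2 * ∏ k ∈ K, val k ≤ NS q (2 * J) := fun hJ3 => by
      have h := NS_shift (q := q) 3 (2 * J - 3)
      rw [show 3 + (2 * J - 3) = 2 * J by omega, show 2 * J - 3 = J + (J - 3) by omega, pow_add, NS_three,
        mul_assoc] at h
      refine le_trans ?_ h
      calc 2 * ∏ k ∈ K, val k ≤ 2 * (3 * q ^ J) := Nat.mul_le_mul_left _ hgen
        _ = q ^ J * 6 := by ring
        _ ≤ _ := Nat.mul_le_mul_left _ (le_trans (by nlinarith) (Nat.le_mul_of_pos_left _ (pow_pos (by omega) _)))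
    by_cases hJ3 : 3 ≤ J
    · exact ⟨(h6 hJ3).trans (NS_mono (by omega)), fun _ => h6 hJ3⟩
    have hprod : ∏ k ∈ K, val k ≤ q ^ J + 1 := by
      by_cases hone : K.card = 1
      · obtain ⟨k, hk⟩ := Finset.card_eq_one.1 hone
        have : J = k.1 := by rw [hJ, hk, Finset.sum_singleton]
        rw [hk, Finset.prod_singleton, this]
        exact hvle k (hk ▸ Finset.mem_singleton_self k)
      · have h2 : K.card = 2 := by have := hKne.card_pos; omega
        obtain ⟨a, b, hab, hK2⟩ := Finset.card_eq_two.1 h2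
        have hs : J = a.1 + b.1 := by rw [hJ, hK2, Finset.sum_pair hab]
        have ha := hk1 a (by rw [hK2]; simp)
        have hb := hk1 b (by rw [hK2]; simp)
        have ha1 : a.1 = 1 := by omega
        have hb1 : b.1 = 1 := by omega
        have hne2 : a.2 ≠ b.2 := fun h => hab (Prod.ext (ha1.trans hb1.symm) h)
        rw [hK2, Finset.prod_pair hab, hs, ha1, hb1]
        have e : (q + 1) * (q - 1) ≤ q ^ (1 + 1) + 1 := by
          rw [show q ^ (1 + 1) = q * q by ring, mul_comm]
          calc (q - 1) * (q + 1) ≤ q * q := by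
                have : q - 1 + 1 = q := by omega
                nlinarith
            _ ≤ _ := Nat.le_succ _
        revert hne2
        rcases ha2 : a.2 <;> rcases hb2 : b.2 <;> intro hne2 <;> simp [val, ha2, hb2, ha1, hb1] at hne2 ⊢
        all_goals first | (rw [mul_comm] at e; simpa using e) | simpa using e
    rcases (show J = 1 ∨ J = 2 by omega) with hJe | hJe <;> rw [hJe] at hprod ⊢
    · refine ⟨?_, fun h => absurd h (by omega)⟩
      rw [show 2 * 1 + 1 = 3 from rfl, NS_three]
      rw [pow_one] at hprod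
      nlinarith
    · have : 2 * ∏ k ∈ K, val k ≤ NS q (2 * 2) := by
        simp only [NS, Finset.sum_range_succ, Finset.sum_range_zero, show 2 * 2 = 4 from rfl]
        nlinarith
      exact ⟨this.trans (NS_mono (by omega)), fun _ => this⟩
  have hTT : T'.card ≤ T.card := Finset.card_filter_le _ _
  have htwoJ : u = 1 ∨ 2 * J + u ≤ d := by
    rcases (show u = 1 ∨ 2 ≤ u by omega) with h | h
    · exact Or.inl h
    · refine Or.inr ?_
      by_cases hx' : x0 ∈ T'
      · have hne0 := (Finset.mem_filter.1 hx').2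
        have := count_two_add_card_le M hne0 hx0
          (Multiset.mem_toFinset.1 (hmemi x0 (Multiset.mem_toFinset.2 hx0))) (hcinv x0)
        rw [← hR, ← hud] at this
        change 2 * u + T.card ≤ d + 2 at this
        omega
      · have hlt : T'.card < T.card := Finset.card_lt_card
          (Finset.ssubset_iff_subset_ne.2 ⟨Finset.filter_subset _ _, fun e => hx' (by rw [e]; exact Multiset.mem_toFinset.2 hx0)⟩)
        omega
  by_cases hsmall : 2 * J + u ≤ d
  · calc 2 * ((∏ k ∈ K, val k) * p ^ (u - 1)) = p ^ (u - 1) * (2 * ∏ k ∈ K, val k) := by ring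
      _ ≤ q ^ (u - 1) * NS q (2 * J + 1) := Nat.mul_le_mul hpu hC.1
      _ ≤ NS q (2 * J + 1 + (u - 1)) := NS_shift _ _
      _ ≤ NS q d := NS_mono (by omega)
  · have hu1 : u = 1 := by omega
    rw [hu1, Nat.sub_self, pow_zero, mul_one]
    exact (hC.2 (by omega)).trans (NS_mono (by omega))

end CfsgLib.AutOrder
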