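import Mathlib
import Cfsg.Agent.Lib.PSLn.Basic
import Cfsg.Agent.Lib.PSLn.AutOrder.Arith

/-! Orders of semilinear automorphisms of `PSL_d(q)`. -/

set_option autoImplicit false
set_option maxHeartbeats 800000

namespace CfsgLib.AutOrder

open Matrix CfsgLib.PSLn

variable {F : Type*} [Field F] [Fintype F] {d : ℕ}

/-- A matrix whose characteristic polynomial is defined over a subfield has small projective order. -/
theorem order_bound (hd : 1 ≤ d) (S : Subfield F) (T : GL (Fin d) F)
    (hT : ∀ i, T.1.charpoly.coeff i ∈ S) :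
    ∃ k, 0 < k ∧ (T ^ k) ∈ Subgroup.center (GL (Fin d) F) ∧
      (Nat.card S - 1) * k ≤ Nat.card S ^ d - 1 := by
  classical
  haveI : Nonempty (Fin d) := ⟨⟨0, hd⟩⟩
  haveI : Fintype S := Fintype.ofFinite _
  set N := orderOf (QuotientGroup.mk T : GL (Fin d) F ⧸ Subgroup.center (GL (Fin d) F)) with hN
  refine ⟨N, orderOf_pos _, (QuotientGroup.eq_one_iff _).1 (by
    rw [QuotientGroup.mk_pow]; exact pow_orderOf_eq_one _), ?_⟩
  obtain ⟨χ, hχ⟩ : ∃ χ : Polynomial S, χ.map S.subtype = T.1.charpoly :=
    (Polynomial.mem_lifts _).1 ((Polynomial.lifts_iff_coeff_lifts _).2 fun i => ⟨⟨_, hT i⟩, rfl⟩)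
  have hχd : χ.natDegree = d := by
    rw [← Polynomial.natDegree_map_eq_of_injective S.subtype.injective χ, hχ, charpoly_natDegree_eq_dim,
      Fintype.card_fin]
  have hχm : χ.Monic := Polynomial.monic_of_injective S.subtype.injective (by rw [hχ]; exact T.1.charpoly_monic)
  have hrep : ∀ (c : Sˣ) (i : ℕ), ∃ a : Fin d → S,
      ∑ j, ((a j : S) : F) • T.1 ^ (j : ℕ) = ((c : S) : F) • T.1 ^ i := by
    intro c i
    set P := (Polynomial.C (c : S) * Polynomial.X ^ i) %ₘ χ
    have hP : Polynomial.aeval T.1 (P.map S.subtype) = ((c : S) : F) • T.1 ^ i := by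
      rw [Polynomial.map_modByMonic _ hχm, hχ, Polynomial.aeval_modByMonic_eq_self_of_root
        (Matrix.aeval_self_charpoly _), Polynomial.map_mul, Polynomial.map_C, Polynomial.map_pow,
        Polynomial.map_X, map_mul, Polynomial.aeval_C, map_pow, Polynomial.aeval_X, Algebra.smul_def]
      rfl
    have hdeg : (P.map S.subtype).natDegree < d := by
      have := Polynomial.natDegree_modByMonic_lt (Polynomial.C (c : S) * Polynomial.X ^ i) hχm
        (fun h1 => by rw [h1, Polynomial.natDegree_one] at hχd; omega)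
      rw [Polynomial.natDegree_map_eq_of_injective S.subtype.injective]
      exact hχd ▸ this
    refine ⟨fun j => P.coeff j, ?_⟩
    rw [← hP, Polynomial.aeval_eq_sum_range' hdeg, Finset.sum_range]
    exact Finset.sum_congr rfl fun j _ => by rw [Polynomial.coeff_map]; rfl
  choose a ha using hrep
  have hinj : Function.Injective (fun z : Sˣ × Fin N => a z.1 z.2) := by
    rintro ⟨c, i⟩ ⟨c', i'⟩ h
    have e : ((c : S) : F) • T.1 ^ (i : ℕ) = ((c' : S) : F) • T.1 ^ (i' : ℕ) := by
      rw [← ha, ← ha]; simp only at h; rw [h]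
    have hmk : ∀ (x : Sˣ) (k : ℕ), (QuotientGroup.mk
        (GeneralLinearGroup.scalar (Fin d) (Units.map (S.subtype : S →* F) x) * T ^ k) :
          GL (Fin d) F ⧸ Subgroup.center (GL (Fin d) F)) = QuotientGroup.mk (T ^ k) := fun x k => by
      rw [QuotientGroup.mk_mul, (QuotientGroup.eq_one_iff _).2 (by
        rw [GeneralLinearGroup.center_eq_range_scalar]; exact ⟨_, rfl⟩), one_mul]
    have hval : ∀ (x : Sˣ) (k : ℕ), (GeneralLinearGroup.scalar (Fin d) (Units.map (S.subtype : S →* F) x) *
        T ^ k).1 = ((x : S) : F) • T.1 ^ k := fun x k => by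
      show Matrix.scalar (Fin d) ((x : S) : F) * (T ^ k).1 = _
      rw [Units.val_pow_eq_pow_val, Matrix.scalar_apply, ← smul_one_eq_diagonal, smul_mul_assoc, one_mul]
    have hi : (QuotientGroup.mk (T ^ (i : ℕ)) : GL (Fin d) F ⧸ Subgroup.center (GL (Fin d) F)) =
        QuotientGroup.mk (T ^ (i' : ℕ)) := by
      rw [← hmk c, ← hmk c']
      exact congrArg _ (Units.ext ((hval c i).trans (e.trans (hval c' i').symm)))
    rw [QuotientGroup.mk_pow, QuotientGroup.mk_pow] at hi
    have hii : i = i' := Fin.ext (pow_injOn_Iio_orderOf i.2 i'.2 hi)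
    subst hii
    refine Prod.ext (Units.ext (Subtype.ext ?_)) rfl
    obtain ⟨k, l, hkl⟩ : ∃ k l, (T ^ (i : ℕ)).1 k l ≠ 0 := by
      by_contra hc
      push Not at hc
      exact (T ^ (i : ℕ)).ne_zero (Matrix.ext hc)
    rw [Units.val_pow_eq_pow_val] at hkl
    have := congrFun (congrFun e k) l
    simp only [Matrix.smul_apply, smul_eq_mul] at this
    exact mul_right_cancel₀ hkl this
  have hne : ∀ z : Sˣ × Fin N, a z.1 z.2 ≠ 0 := by
    rintro ⟨c, i⟩ h0
    have := ha c i
    simp only at h0
    rw [h0] at this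
    simp only [Pi.zero_apply, ZeroMemClass.coe_zero, zero_smul, Finset.sum_const_zero] at this
    refine (T ^ (i : ℕ)).ne_zero ((Units.val_pow_eq_pow_val T i).trans
      ((smul_eq_zero.mp this.symm).resolve_left ?_))
    exact fun h => c.ne_zero (Subtype.ext h)
  have hle := Fintype.card_le_of_injective
    (fun z => (⟨a z.1 z.2, hne z⟩ : {v : Fin d → S // v ≠ 0}))
    (fun z z' h => hinj (congrArg Subtype.val h))
  rw [Fintype.card_prod, Fintype.card_units, Fintype.card_fin, Fintype.card_subtype_compl,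
    Fintype.card_fun, Fintype.card_fin, Fintype.card_subtype_eq, ← Nat.card_eq_fintype_card] at hle
  exact hle

theorem diagAut_center {z : GL (Fin d) F} (hz : z ∈ Subgroup.center (GL (Fin d) F)) :
    diagAut z = 1 := by
  refine MulEquiv.ext fun x => ?_
  obtain ⟨A, rfl⟩ := PSLn.mk_surjective x
  rw [diagAut_mk, MulAut.one_apply]
  congr 1
  apply Subtype.ext
  have h : z * SpecialLinearGroup.toGL A * z⁻¹ = SpecialLinearGroup.toGL A := by
    rw [← Subgroup.mem_center_iff.1 hz (SpecialLinearGroup.toGL A), mul_inv_cancel_right]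
  exact congrArg Units.val h

/-- The entrywise action of a field automorphism. -/
abbrev gmap (e : RingAut F) : GL (Fin d) F →* GL (Fin d) F :=
  GeneralLinearGroup.map (e : F ≃+* F).toRingHom

theorem gmap_comp (e e' : RingAut F) (g : GL (Fin d) F) : gmap (e * e') g = gmap e (gmap e' g) :=
  Units.ext rfl

theorem gmap_one (g : GL (Fin d) F) : gmap (1 : RingAut F) g = g := Units.ext rfl

/-- The iterated product. -/
def cyc (g : GL (Fin d) F) (e : RingAut F) : ℕ → GL (Fin d) F
  | 0 => 1
  | i + 1 => g * gmap e (cyc g e i)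

theorem cyc_succ' (g : GL (Fin d) F) (e : RingAut F) : ∀ i, cyc g e (i + 1) = cyc g e i * gmap (e ^ i) g
  | 0 => by simp only [cyc, map_one, mul_one, one_mul, pow_zero, gmap_one]
  | i + 1 => by
    show g * gmap e (cyc g e (i + 1)) = g * gmap e (cyc g e i) * _
    rw [cyc_succ' g e i, map_mul, ← gmap_comp, ← pow_succ', mul_assoc]

theorem pow_eq (g : GL (Fin d) F) (e : RingAut F) :
    ∀ i, (diagAut g * fieldAut e) ^ i = diagAut (cyc g e i) * fieldAut (e ^ i)
  | 0 => by simp [cyc]
  | i + 1 => by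
    rw [pow_succ', pow_eq g e i, mul_assoc, ← mul_assoc (fieldAut e), fieldAut_diag, cyc, map_mul,
      pow_succ' e, map_mul, mul_assoc, mul_assoc]

/-- The size of a field against the fixed field of an automorphism. -/
theorem card_fixed (e : RingAut F) :
    ∃ S : Subfield F, (∀ x, x ∈ S ↔ e x = x) ∧ Fintype.card F = Nat.card S ^ orderOf e ∧ 2 ≤ Nat.card S := by
  classical
  haveI : Finite (RingAut F) := Finite.of_injective (fun f : RingAut F => (f : F → F)) DFunLike.coe_injective
  haveI : Fintype (Subgroup.zpowers e) := Fintype.ofFinite _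
  haveI : FaithfulSMul (Subgroup.zpowers e) F :=
    ⟨fun {a b} h => Subtype.ext (RingEquiv.ext fun x => h x)⟩
  refine ⟨FixedPoints.subfield (Subgroup.zpowers e) F, fun x => ⟨fun h => ?_, fun h g => ?_⟩, ?_, ?_⟩
  · exact h ⟨e, Subgroup.mem_zpowers e⟩
  · obtain ⟨i, hi⟩ := Subgroup.mem_zpowers_iff.1 g.2
    have : e ∈ MulAction.stabilizer (RingAut F) x := h
    show g.1 • x = x
    rw [← hi]
    exact zpow_mem this i
  · rw [← Nat.card_zpowers, Nat.card_eq_fintype_card (α := Subgroup.zpowers e),
      ← FixedPoints.finrank_eq_card (Subgroup.zpowers e) F, ← Nat.card_eq_fintype_card]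
    exact Module.natCard_eq_pow_finrank
  · haveI : Finite (FixedPoints.subfield (Subgroup.zpowers e) F) := Subtype.finite
    exact Finite.one_lt_card

/-- The order of a field-times-diagonal automorphism. -/
theorem linear_bound (hd : 1 ≤ d) (g : GL (Fin d) F) (e : RingAut F) :
    ∃ Q, 2 ≤ Q ∧ Fintype.card F = Q ^ orderOf e ∧ orderOf (diagAut g * fieldAut e) ≤ orderOf e * NS Q d := by
  classical
  haveI : Finite (RingAut F) := Finite.of_injective (fun f : RingAut F => (f : F → F)) DFunLike.coe_injective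
  obtain ⟨S, hS, hcard, hS2⟩ := card_fixed e
  set ε := orderOf e
  set T := cyc g e ε
  have hT : gmap e T = g⁻¹ * T * g := by
    rw [eq_comm, mul_assoc, inv_mul_eq_iff_eq_mul]
    show T * g = g * gmap e T
    rw [show g * gmap e T = cyc g e (ε + 1) from rfl, cyc_succ', pow_orderOf_eq_one, gmap_one]
  have hcoef : ∀ i, T.1.charpoly.coeff i ∈ S := fun i => by
    rw [hS]
    have h : (T.1.map (e : F ≃+* F).toRingHom).charpoly = T.1.charpoly := by
      rw [show T.1.map (e : F ≃+* F).toRingHom = (gmap e T).1 from rfl, hT, Units.val_mul, Units.val_mul,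
        Matrix.coe_units_inv, charpoly_units_conj']
    have h' := congrArg (fun P => P.coeff i) h
    rw [charpoly_map] at h'
    simp only [Polynomial.coeff_map] at h'
    exact h'
  obtain ⟨k, hk0, hk, hkb⟩ := order_bound hd S T hcoef
  refine ⟨Nat.card S, hS2, hcard, le_trans (Nat.le_of_dvd (Nat.mul_pos (orderOf_pos e) hk0) ?_)
    (Nat.mul_le_mul_left _ (le_NS hS2 hkb))⟩
  refine orderOf_dvd_of_pow_eq_one ?_
  rw [pow_mul, pow_eq, pow_orderOf_eq_one, map_one, mul_one, ← map_pow]
  exact diagAut_center hk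

/-- The square of an automorphism involving the inverse transpose. -/
theorem graph_sq (g : GL (Fin d) F) (e : RingAut F) :
    (diagAut g * fieldAut e * graphAut) ^ 2 = diagAut (g * gmap e (dualGL g)) * fieldAut (e ^ 2) := by
  calc (diagAut g * fieldAut e * graphAut) ^ 2
      = diagAut g * fieldAut e * (graphAut * diagAut g) * (fieldAut e * graphAut) := by
        simp only [sq, mul_assoc]
    _ = diagAut g * fieldAut e * (diagAut (dualGL g) * graphAut) * (graphAut * fieldAut e) := by
        rw [graphAut_diag, graphAut_field]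
    _ = diagAut g * (fieldAut e * diagAut (dualGL g)) * (graphAut * graphAut) * fieldAut e := by
        simp only [mul_assoc]
    _ = diagAut g * (diagAut (gmap e (dualGL g)) * fieldAut e) * fieldAut e := by
        rw [fieldAut_diag, graphAut_mul_self, mul_one]
    _ = _ := by rw [map_mul, sq, map_mul]; simp only [mul_assoc]

theorem diag_ker (hd : 2 ≤ d) {g : GL (Fin d) F} (h : diagAut g = 1) :
    g ∈ Subgroup.center (GL (Fin d) F) := by
  rw [GeneralLinearGroup.center_eq_range_scalar]
  have hc : ∀ i j : Fin d, i ≠ j → Commute (single i j (1 : F)) g.1 := by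
    intro i j hij
    set A := xx i j hij (1 : F) with hA
    have h1 : PSLn.mk (conjSL g A) = PSLn.mk A := by rw [← diagAut_mk, h, MulAut.one_apply]
    have hsq : (A.1 - 1) * (A.1 - 1) = 0 := by rw [hA, xx_eq_tv]; exact tv_sq _ _ _
    have hsq' : ((conjSL g A).1 - 1) * ((conjSL g A).1 - 1) = 0 := by
      obtain ⟨h', e⟩ := conjSL_tv g ((1 : F) • Pi.single i 1) (Pi.single j 1) (dot_single_ne hij 1)
      rw [hA, xx_eq_tv, e]
      exact tv_sq _ _ _
    have h2 := congrArg Subtype.val (sqzero_unique hsq' hsq h1)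
    rw [coe_conjSL, hA, coe_xx, Matrix.mul_add, Matrix.mul_one, Matrix.add_mul, ← Units.val_mul,
      mul_inv_cancel, Units.val_one, add_right_inj] at h2
    show single i j 1 * g.1 = g.1 * single i j 1
    calc single i j 1 * g.1 = g.1 * single i j 1 * (g⁻¹).1 * g.1 := by rw [h2]
      _ = g.1 * single i j 1 := by rw [mul_assoc (g.1 * _), ← Units.val_mul, inv_mul_cancel, Units.val_one, mul_one]
  obtain ⟨c, hc'⟩ := mem_range_scalar_of_commute_single fun i j hij => hc i j hij
  haveI : Nonempty (Fin d) := ⟨⟨0, by omega⟩⟩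
  have hc0 : c ≠ 0 := fun h0 => g.ne_zero (by rw [← hc', h0, map_zero])
  exact ⟨Units.mk0 c hc0, Units.ext hc'⟩

end CfsgLib.AutOrder
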