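import Mathlib
import Cfsg.Agent.Lib.PSLn.Aut
import Cfsg.Agent.Lib.PSLn.AutOrder.Semilinear
import Cfsg.Agent.Lib.PSLn.AutOrder.Reciprocal

/-! The largest order of an automorphism of `PSL_d(q)`. -/

set_option autoImplicit false
set_option maxHeartbeats 800000

namespace CfsgLib.AutOrder

open Matrix CfsgLib.PSLn Polynomial

variable {F : Type*} [Field F] [Fintype F] {d : ℕ}

/-- The twisted square has small projective order. -/
theorem twisted_small (hd : 3 ≤ d) (h32 : ¬ (d = 3 ∧ Fintype.card F = 2)) (g : GL (Fin d) F) (e : RingAut F)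
    (he2 : e ^ 2 = 1) :
    ∃ k, 0 < k ∧ (g * gmap e (dualGL g)) ^ k ∈ Subgroup.center (GL (Fin d) F) ∧
      2 * k ≤ NS (Fintype.card F) d := by
  classical
  haveI : Nonempty (Fin d) := ⟨⟨0, by omega⟩⟩
  obtain ⟨p, hchar⟩ := CharP.exists F
  haveI : Fact p.Prime := ⟨CharP.char_is_prime F p⟩
  obtain ⟨n, -, hn⟩ := FiniteField.card F p
  set q := Fintype.card F with hqd
  have hq : 2 ≤ q := Fintype.one_lt_card
  set Ω := AlgebraicClosure F
  haveI : CharP Ω p := charP_of_injective_algebraMap (algebraMap F Ω).injective p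
  haveI : ExpChar Ω p := ExpChar.prime Fact.out
  set ι := algebraMap F Ω with hι
  -- the power acting as `e`
  obtain ⟨b, hb1, hbe, hbq⟩ : ∃ b : ℕ, 1 ≤ b ∧ (∀ x, e x = x ^ p ^ b) ∧ (e = 1 ∧ p ^ b = q ∨ (p ^ b) ^ 2 = q) := by
    obtain ⟨S, hS, hcard, hS2⟩ := card_fixed e
    rcases (Nat.dvd_prime Nat.prime_two).1 (orderOf_dvd_of_pow_eq_one he2) with h1 | h1
    · refine ⟨n, n.pos, fun x => ?_, Or.inl ⟨orderOf_eq_one_iff.1 h1, hn.symm⟩⟩
      rw [orderOf_eq_one_iff.1 h1, ← hn, hqd, FiniteField.pow_card]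
      rfl
    · rw [h1, ← hqd] at hcard
      obtain ⟨b, -, hb⟩ : ∃ b, b ≤ (n : ℕ) ∧ Nat.card S = p ^ b :=
        (Nat.dvd_prime_pow Fact.out).1 (by rw [← hn, hcard]; exact dvd_pow_self _ two_ne_zero)
      refine ⟨b, ?_, ?_, Or.inr (by rw [← hb]; exact hcard.symm)⟩
      · rcases Nat.eq_zero_or_pos b with rfl | h
        · rw [pow_zero] at hb; omega
        · exact h
      haveI : Finite S := Subtype.finite
      haveI : Fintype S := Fintype.ofFinite S
      have hfr : ∀ x : F, FiniteField.frobeniusAlgHom S F x = x ^ p ^ b := fun x => by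
        rw [← hb, Nat.card_eq_fintype_card]; rfl
      let ea : F →ₐ[S] F := { (e : F ≃+* F).toRingHom with commutes' := fun c => (hS c.1).1 c.2 }
      -- the algebra endomorphisms are the identity and `e`
      have hfin : Module.finrank S F = 2 := by
        have h := Module.card_eq_pow_finrank (K := S) (V := F)
        rw [← hqd, hcard, ← Nat.card_eq_fintype_card] at h
        exact (Nat.pow_right_injective hS2 h).symm
      have hne1 : ea ≠ AlgHom.id S F := fun h => by
        have : e = 1 := RingEquiv.ext fun x => DFunLike.congr_fun h x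
        rw [this, orderOf_one] at h1
        omega
      have hne2 : FiniteField.frobeniusAlgHom S F ≠ AlgHom.id S F := fun h => by
        obtain ⟨ζ, hζ⟩ := IsCyclic.exists_ofOrder_eq_natCard (α := Fˣ)
        rw [Nat.card_units, Nat.card_eq_fintype_card, ← hqd] at hζ
        have h2 : ζ ^ (p ^ b - 1) = 1 := by
          refine mul_left_cancel (a := ζ) ?_
          rw [← pow_succ', Nat.sub_add_cancel (by rw [← hb]; omega), mul_one]
          apply Units.ext
          rw [Units.val_pow_eq_pow_val, ← hfr]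
          exact DFunLike.congr_fun h _
        have h3 := Nat.le_of_dvd (by rw [← hb]; omega) (hζ ▸ orderOf_dvd_of_pow_eq_one h2)
        have : Nat.card S < Nat.card S ^ 2 := by nlinarith
        rw [← hcard, hb] at this
        omega
      have hle : Fintype.card (F →ₐ[S] F) ≤ 2 := hfin ▸ AlgHom.card_le
      intro x
      have heq : ea = FiniteField.frobeniusAlgHom S F := by
        by_contra hne
        have h3 : ({ea, FiniteField.frobeniusAlgHom S F, AlgHom.id S F} : Finset (F →ₐ[S] F)).card = 3 := by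
          rw [Finset.card_insert_of_notMem (by simp [hne, hne1]), Finset.card_insert_of_notMem (by simp [hne2]),
            Finset.card_singleton]
        have := Finset.card_le_univ ({ea, FiniteField.frobeniusAlgHom S F, AlgHom.id S F} : Finset (F →ₐ[S] F))
        omega
      rw [← hfr]
      exact DFunLike.congr_fun heq x
  set r := p ^ b with hr
  let fr : Ω →+* Ω := iterateFrobenius Ω p b
  have hfr : ∀ x, fr x = x ^ r := fun x => iterateFrobenius_def ..
  let fq : Ω →+* Ω := iterateFrobenius Ω p n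
  have hfq : ∀ x, fq x = x ^ q := fun x => by rw [hn]; exact iterateFrobenius_def ..
  -- the relation
  set X := g * gmap e (dualGL g) with hX
  have hrel : gmap e (dualGL X) = g⁻¹ * X * g := by
    have hcomm : ∀ h : GL (Fin d) F, dualGL (gmap e h) = gmap e (dualGL h) := fun h => by
      refine Units.ext ?_
      show ((gmap e h)⁻¹).1ᵀ = ((h⁻¹).1ᵀ).map _
      rw [← map_inv, Matrix.transpose_map]
      rfl
    have hdd : dualGL (dualGL g) = g := by
      refine Units.ext ?_
      show ((dualGL g)⁻¹).1ᵀ = g.1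
      rw [← map_inv]
      show (((g⁻¹)⁻¹ : GL (Fin d) F).1ᵀ)ᵀ = g.1
      rw [inv_inv, Matrix.transpose_transpose]
    have hee : gmap e (gmap e g) = g := by rw [← gmap_comp, ← sq, he2, gmap_one]
    rw [hX, map_mul, hcomm, hdd, map_mul, hee]
    group
  set Xb := X.1.map ι with hXb
  have hdet : IsUnit Xb := (X.isUnit).map ι.mapMatrix
  have hXinv : (X⁻¹).1.map ι = Xb⁻¹ := (Matrix.inv_eq_right_inv (by
    rw [hXb, ← Matrix.map_mul, ← Units.val_mul, mul_inv_cancel, Units.val_one,
      Matrix.map_one ι (map_zero ι) (map_one ι)])).symm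
  have hchar' : Xb.charpoly = (Xb⁻¹).charpoly.map fr := by
    have h1 : ((X⁻¹).1.charpoly).map (e : F ≃+* F).toRingHom = X.1.charpoly := by
      rw [← Matrix.charpoly_transpose (X⁻¹).1, ← Matrix.charpoly_map,
        show ((X⁻¹).1ᵀ).map (e : F ≃+* F).toRingHom = (gmap e (dualGL X)).1 from rfl, hrel, Units.val_mul,
        Units.val_mul, Matrix.coe_units_inv, charpoly_units_conj']
    rw [hXb, charpoly_map, ← h1, Polynomial.map_map, ← hXinv, charpoly_map, Polynomial.map_map]
    congr 1
    exact RingHom.ext fun x => by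
      show ι (e x) = fr (ι x)
      rw [hfr, hbe, map_pow]
  set R := Xb.charpoly.roots with hR
  have h0 : (0 : Ω) ∉ R := fun h => by
    rw [hR, mem_roots (Matrix.charpoly_monic _).ne_zero, IsRoot.def] at h
    have hd0 : Xb.det = 0 := by rw [det_eq_sign_charpoly_coeff, coeff_zero_eq_eval_zero, h, mul_zero]
    exact ((Matrix.isUnit_iff_isUnit_det _).1 hdet).ne_zero hd0
  have hrinv : (Xb⁻¹).charpoly.roots = R.map (·⁻¹) := by
    have e1 : ((-1 : Polynomial Ω) ^ Fintype.card (Fin d) * C (Ring.inverse Xb.det)) =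
        C ((-1) ^ Fintype.card (Fin d) * Ring.inverse Xb.det) := by simp
    rw [charpoly_inv _ hdet, e1, roots_C_mul _ (mul_ne_zero (pow_ne_zero _ (by norm_num)) (by
        rw [Ring.inverse_eq_inv']; exact inv_ne_zero ((Matrix.isUnit_iff_isUnit_det _).1 hdet).ne_zero)),
      ← reverse_charpoly, hR]
    conv_lhs => rw [(IsAlgClosed.splits Xb.charpoly).eq_prod_roots_of_monic (charpoly_monic Xb)]
    rw [CfsgLib.SpectrumPowers.roots_reverse_prod _ (by rw [← hR]; exact h0)]
  have hσ : R.map (fun x => (x ^ r)⁻¹) = R := by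
    have h := (IsAlgClosed.splits (Xb⁻¹).charpoly).roots_map fr
    rw [← hchar', ← hR, hrinv, Multiset.map_map] at h
    conv_rhs => rw [h]
    exact Multiset.map_congr rfl fun x _ => by simp [hfr, inv_pow]
  have hsmall : Small Xb (NS q d) := by
    rcases hbq with ⟨-, hbq⟩ | hbq
    · rw [hbq] at hσ
      have hfix : R.map (fun x => x ^ q) = R := by
        have h := (IsAlgClosed.splits Xb.charpoly).roots_map fq
        rw [← Matrix.charpoly_map, show Xb.map fq = Xb by
          ext i j
          show fq (ι (X.1 i j)) = ι (X.1 i j)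
          rw [hfq, ← map_pow, hqd, FiniteField.pow_card], ← hR] at h
        conv_rhs => rw [h]
        exact Multiset.map_congr rfl fun x _ => (hfq x).symm
      have hinv : R.map (·⁻¹) = R := by
        conv_rhs => rw [← hσ]
        conv_lhs => rw [← hfix, Multiset.map_map]
        rfl
      refine bound_sym p Xb hd hq ?_ h32 (fun hp2 => ?_) fq hfq h0 hfix hinv
      · rw [hn]; exact Nat.le_self_pow n.ne_zero p
      · rw [hn]; exact ((Fact.out : p.Prime).odd_of_ne_two hp2).pow
    · rw [← hbq]
      exact bound_herm p Xb hd ((Fact.out : p.Prime).two_le.trans (Nat.le_self_pow (by omega) p))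
        (Nat.le_self_pow (by omega) p) fr hfr h0 hσ
  obtain ⟨k, hk0, ⟨c, hc⟩, hk⟩ := hsmall
  refine ⟨k, hk0, ?_, hk⟩
  rw [GeneralLinearGroup.center_eq_range_scalar]
  rw [hXb, ← Matrix.map_pow, ← Units.val_pow_eq_pow_val] at hc
  set i0 : Fin d := ⟨0, by omega⟩
  have hoff : ∀ i j : Fin d, (X ^ k).1 i j = if i = j then (X ^ k).1 i0 i0 else 0 := by
    intro i j
    apply ι.injective
    have h1 := congrFun (congrFun hc i) j
    have h2 := congrFun (congrFun hc i0) i0
    simp only [Matrix.map_apply, Matrix.smul_apply, Matrix.one_apply, smul_eq_mul, if_true, mul_one] at h1 h2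
    split_ifs with hij
    · rw [h1, if_pos hij, mul_one, h2]
    · rw [h1, if_neg hij, mul_zero, map_zero]
  have hne : (X ^ k).1 i0 i0 ≠ 0 := fun h => (X ^ k).ne_zero (by ext i j; rw [hoff, h]; simp)
  exact ⟨Units.mk0 _ hne, Units.ext (by
    ext i j
    show Matrix.scalar (Fin d) ((X ^ k).1 i0 i0) i j = _
    rw [hoff i j, Matrix.scalar_apply, Matrix.diagonal_apply])⟩

/-- The bound for automorphisms involving the inverse transpose. -/
theorem graph_bound (hd : 3 ≤ d) (h32 : ¬ (d = 3 ∧ Fintype.card F = 2)) (g : GL (Fin d) F) (e : RingAut F) :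
    orderOf (diagAut g * fieldAut e * graphAut) ≤ NS (Fintype.card F) d := by
  classical
  haveI : Finite (RingAut F) := Finite.of_injective (fun f : RingAut F => (f : F → F)) DFunLike.coe_injective
  set φ := diagAut g * fieldAut e * graphAut with hφ
  haveI : Finite (MulAut (ProjectiveSpecialLinearGroup (Fin d) F)) :=
    Finite.of_injective (fun f : MulAut (ProjectiveSpecialLinearGroup (Fin d) F) =>
      (f : ProjectiveSpecialLinearGroup (Fin d) F → ProjectiveSpecialLinearGroup (Fin d) F)) DFunLike.coe_injective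
  have hle : orderOf φ ≤ 2 * orderOf (φ ^ 2) := Nat.le_of_dvd (by have := orderOf_pos (φ ^ 2); omega)
    (orderOf_dvd_of_pow_eq_one (by rw [pow_mul]; exact pow_orderOf_eq_one _))
  rw [hφ, graph_sq g e, ← hφ] at hle
  set X := g * gmap e (dualGL g)
  by_cases he : e ^ 2 = 1
  · obtain ⟨k, hk0, hk, hkb⟩ := twisted_small hd h32 g e he
    refine hle.trans (le_trans (Nat.mul_le_mul_left 2 (Nat.le_of_dvd hk0 (orderOf_dvd_of_pow_eq_one ?_))) hkb)
    rw [he, map_one, mul_one, ← map_pow]
    exact diagAut_center hk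
  · obtain ⟨Q, hQ, hcard, hb⟩ := linear_bound (by omega) X (e ^ 2)
    refine hle.trans (le_trans (Nat.mul_le_mul_left 2 hb) ?_)
    rw [hcard]
    have hε : 2 ≤ orderOf (e ^ 2) := by
      have := orderOf_pos (e ^ 2)
      have : orderOf (e ^ 2) ≠ 1 := fun h => he (orderOf_eq_one_iff.1 h)
      omega
    refine semilinear_graph hQ hε ?_ hd
    by_contra hcon
    have hε2 : orderOf (e ^ 2) = 2 := by omega
    obtain ⟨S, -, hSc, hS2⟩ := card_fixed e
    have ho : orderOf e = 4 := by
      refine orderOf_eq_prime_pow (p := 2) (n := 1) (by simpa using he) ?_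
      rw [show 2 ^ (1 + 1) = 2 * 2 from rfl, pow_mul]
      have h := pow_orderOf_eq_one (e ^ 2)
      rwa [hε2] at h
    rw [ho, hcard, hε2] at hSc
    have h1 : Q = Nat.card S ^ 2 := Nat.pow_left_injective two_ne_zero (show Q ^ 2 = (Nat.card S ^ 2) ^ 2 by rw [← pow_mul]; exact hSc)
    have : 4 ≤ Nat.card S ^ 2 := le_trans (by norm_num) (Nat.pow_le_pow_left hS2 2)
    omega

/-- The bound for field-times-diagonal automorphisms. -/
theorem linear_le (hd : 2 ≤ d) (h24 : ¬ (d = 2 ∧ Fintype.card F = 4)) (g : GL (Fin d) F) (e : RingAut F) :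
    orderOf (diagAut g * fieldAut e) ≤ NS (Fintype.card F) d := by
  haveI : Finite (RingAut F) := Finite.of_injective (fun f : RingAut F => (f : F → F)) DFunLike.coe_injective
  obtain ⟨Q, hQ, hcard, hb⟩ := linear_bound (by omega) g e
  refine hb.trans ?_
  rw [hcard] at h24 ⊢
  exact semilinear hQ (orderOf_pos e) hd h24

end CfsgLib.AutOrder
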